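import Mathlib
import Groth.Agent.FlatMisc.Fibrewise
import Groth.Agent.FlatLocus.Basic
import Groth.Agent.AlgSpLib.FlatAt
import Groth.Agent.MorLib.Descend

/-! Proper schemes over a smooth algebra over a DVR and the adic completion of the base. -/

set_option autoImplicit false
set_option linter.style.haveILetI false

namespace Groth.Agent.AdicFlatProper

open AlgebraicGeometry CategoryTheory CategoryTheory.Limits

universe u

variable (V : Type u) [CommRing V] [IsDomain V] [IsDiscreteValuationRing V]
  (A : Type u) [CommRing A] [Algebra V A]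

noncomputable abbrev idl : Ideal A := (IsLocalRing.maximalIdeal V).map (algebraMap V A)

noncomputable abbrev str : Spec (CommRingCat.of A) ⟶ Spec (CommRingCat.of V) :=
  Spec.map (CommRingCat.ofHom (algebraMap V A))

noncomputable abbrev red : Spec (CommRingCat.of (A ⧸ (idl V A))) ⟶ Spec (CommRingCat.of A) :=
  Spec.map (CommRingCat.ofHom (Ideal.Quotient.mk (idl V A)))

noncomputable abbrev cpl : Spec (CommRingCat.of (AdicCompletion (idl V A) A)) ⟶ Spec (CommRingCat.of A) :=
  Spec.map (CommRingCat.ofHom (algebraMap A (AdicCompletion (idl V A) A)))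

theorem closed_iff (y : Spec (CommRingCat.of A)) :
    (str V A y : PrimeSpectrum V).asIdeal = IsLocalRing.maximalIdeal V ↔ (idl V A) ≤ (y : PrimeSpectrum A).asIdeal := by
  rw [Ideal.map_le_iff_le_comap]
  exact ⟨fun h => h.ge, fun h => (IsLocalRing.le_maximalIdeal (PrimeSpectrum.isPrime _).ne_top).antisymm h⟩

theorem mem_range_red {y : Spec (CommRingCat.of A)} (hy : (idl V A) ≤ (y : PrimeSpectrum A).asIdeal) :
    y ∈ Set.range (red V A) := by
  show (y : PrimeSpectrum A) ∈ Set.range (PrimeSpectrum.comap (Ideal.Quotient.mk (idl V A)))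
  rw [range_comap_of_surjective _ _ Ideal.Quotient.mk_surjective, Ideal.mk_ker]
  exact hy

theorem exists_fac {s : Spec (CommRingCat.of V)} (hs : (s : PrimeSpectrum V).asIdeal = IsLocalRing.maximalIdeal V) :
    ∃ l, l ≫ red V A = (str V A).fiberι s := by
  let g := str V A
  obtain ⟨ψ, hψ⟩ := Spec.map_surjective ((g.fiber s).isoSpec.inv ≫ g.fiberι s)
  obtain ⟨χ, hχ⟩ := Spec.map_surjective ((g.fiber s).isoSpec.inv ≫ g.fiberToSpecResidueField s)
  obtain ⟨θ, hθ⟩ := Spec.map_surjective ((Spec (CommRingCat.of V)).fromSpecResidueField s)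
  have e : CommRingCat.ofHom (algebraMap V A) ≫ ψ = θ ≫ χ := by
    apply Spec.map_injective
    rw [Spec.map_comp, Spec.map_comp, hψ, hχ, hθ, Category.assoc, Category.assoc]
    congr 1
    exact pullback.condition
  have hker : ∀ v ∈ IsLocalRing.maximalIdeal V, θ.hom v = 0 := by
    intro v hv
    let pt : Spec ((Spec (CommRingCat.of V)).residueField s) := IsLocalRing.closedPoint _
    have h1 : Spec.map θ pt = s := by rw [hθ]; exact Scheme.fromSpecResidueField_apply s pt
    have h2 : v ∈ (Spec.map θ pt : PrimeSpectrum V).asIdeal := by rw [h1, hs]; exact hv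
    have h3 : θ.hom v ∈ IsLocalRing.maximalIdeal ((Spec (CommRingCat.of V)).residueField s) := h2
    rwa [(IsLocalRing.isField_iff_maximalIdeal_eq.mp (Field.toIsField _)), Ideal.mem_bot] at h3
  have hle : (idl V A) ≤ RingHom.ker ψ.hom := Ideal.map_le_iff_le_comap.mpr fun v hv => by
    show ψ.hom (algebraMap V A v) = 0
    rw [show ψ.hom (algebraMap V A v) = χ.hom (θ.hom v) from congrArg (fun k => k.hom v) e, hker v hv, map_zero]
  refine ⟨(g.fiber s).isoSpec.hom ≫ Spec.map (CommRingCat.ofHom (Ideal.Quotient.lift (idl V A) ψ.hom fun x hx => hle hx)), ?_⟩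
  rw [Category.assoc, ← Spec.map_comp, ← Iso.eq_inv_comp, ← hψ]
  rfl

variable {X : Scheme.{u}} (h : X ⟶ Spec (CommRingCat.of A))

theorem fibre_of_red {P : MorphismProperty Scheme.{u}} [P.IsStableUnderBaseChange]
    (hP : P (pullback.snd h (red V A))) {s : Spec (CommRingCat.of V)}
    (hs : (s : PrimeSpectrum V).asIdeal = IsLocalRing.maximalIdeal V) :
    P (pullback.snd h ((str V A).fiberι s)) := by
  obtain ⟨l, hl⟩ := exists_fac V A hs
  exact MorLib.Desc.of_factor P hP hl (IsPullback.of_hasPullback _ _)

theorem red_of_cpl {P : MorphismProperty Scheme.{u}} [P.IsStableUnderBaseChange]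
    (hP : P (pullback.snd h (cpl V A))) : P (pullback.snd h (red V A)) := by
  refine MorLib.Desc.of_factor P hP (a := Spec.map (CommRingCat.ofHom (AdicCompletion.evalOneₐ (idl V A)).toRingHom)) ?_
    (IsPullback.of_hasPullback _ _)
  rw [← Spec.map_comp, ← CommRingCat.ofHom_comp, AdicCompletion.evalOneₐ_comp_algebraMap_eq_mk]

variable [IsNoetherianRing A]

theorem map_le_jacobson : (idl V A).map (algebraMap A (AdicCompletion (idl V A) A)) ≤ Ideal.jacobson ⊥ := by
  haveI : IsAdicComplete (idl V A) (AdicCompletion (idl V A) A) := AdicCompletion.isAdicComplete (IsNoetherian.noetherian _)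
  haveI : IsAdicComplete ((idl V A).map (algebraMap A (AdicCompletion (idl V A) A))) (AdicCompletion (idl V A) A) :=
    (IsAdicComplete.map_algebraMap_iff _ _).mpr inferInstance
  exact IsAdicComplete.le_jacobson_bot _

theorem cpl_of_opens {P : MorphismProperty Scheme.{u}} [P.IsStableUnderBaseChange] [P.RespectsIso]
    [UniversallyClosed h] (U : X.Opens) (hU : ∀ x, (idl V A) ≤ (h x : PrimeSpectrum A).asIdeal → x ∈ U)
    (hP : P (U.ι ≫ h)) : P (pullback.snd h (cpl V A)) := by
  have havoid : ∀ y, pullback.fst h (cpl V A) y ∈ U := by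
    intro y
    by_contra hy
    have hcl : IsClosed (h '' (U : Set X)ᶜ) := h.isClosedMap _ U.2.isClosed_compl
    obtain ⟨M, hM, hle⟩ := Ideal.exists_le_maximal (pullback.snd h (cpl V A) y : PrimeSpectrum (AdicCompletion (idl V A) A)).asIdeal
      (PrimeSpectrum.isPrime _).ne_top
    let M' : Spec (CommRingCat.of (AdicCompletion (idl V A) A)) := (⟨M, hM.isPrime⟩ : PrimeSpectrum (AdicCompletion (idl V A) A))
    have hsp : pullback.snd h (cpl V A) y ⤳ M' :=
      (PrimeSpectrum.le_iff_specializes (pullback.snd h (cpl V A) y : PrimeSpectrum _) ⟨M, hM.isPrime⟩).mp hle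
    have hmem : cpl V A M' ∈ h '' (U : Set X)ᶜ := by
      refine (hsp.map (cpl V A).continuous).mem_closed hcl ⟨pullback.fst h (cpl V A) y, hy, ?_⟩
      rw [← Scheme.Hom.comp_apply, pullback.condition, Scheme.Hom.comp_apply]
    obtain ⟨x, hx, hxM⟩ := hmem
    refine hx (hU x ?_)
    rw [hxM]
    exact Ideal.map_le_iff_le_comap.mp ((map_le_jacobson V A).trans (sInf_le ⟨bot_le, hM⟩))
  haveI hiso : IsIso (pullback.snd U.ι (pullback.fst h (cpl V A))) := by
    haveI : Surjective (pullback.snd U.ι (pullback.fst h (cpl V A))) := ⟨fun y => by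
      show y ∈ Set.range (pullback.snd U.ι (pullback.fst h (cpl V A)))
      rw [Scheme.Pullback.range_snd]
      show pullback.fst h (cpl V A) y ∈ Set.range U.ι
      rw [U.range_ι]
      exact havoid y⟩
    exact (isIso_iff_isOpenImmersion_and_surjective _).mpr ⟨inferInstance, inferInstance⟩
  have h1 : P (pullback.snd (U.ι ≫ h) (cpl V A)) := MorphismProperty.pullback_snd _ _ hP
  rw [← pullbackRightPullbackFstIso_inv_snd_snd, P.cancel_left_of_respectsIso,
    P.cancel_left_of_respectsIso] at h1
  exact h1

theorem flat_over_base [Module.Flat V A] (hf : Flat (pullback.snd h (cpl V A))) : Flat (h ≫ str V A) := by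
  refine Flat.of_stalkMap _ fun x => ?_
  by_cases hx : (idl V A) ≤ (h x : PrimeSpectrum A).asIdeal
  · obtain ⟨z, hz⟩ := mem_range_red V A hx
    have hmem : h x ∈ Set.range (cpl V A) := by
      refine ⟨Spec.map (CommRingCat.ofHom (AdicCompletion.evalOneₐ (idl V A)).toRingHom) z, ?_⟩
      rw [← Scheme.Hom.comp_apply, ← Spec.map_comp, ← CommRingCat.ofHom_comp,
        AdicCompletion.evalOneₐ_comp_algebraMap_eq_mk]
      exact hz
    obtain ⟨y, rfl⟩ : x ∈ Set.range (pullback.fst h (cpl V A)) := by
      rw [Scheme.Pullback.range_fst]; exact hmem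
    haveI : Flat (cpl V A) := by
      rw [HasRingHomProperty.Spec_iff (P := @Flat)]
      exact RingHom.flat_algebraMap_iff.mpr (AdicCompletion.flat_of_isNoetherian _)
    haveI : Flat (str V A) := by
      rw [HasRingHomProperty.Spec_iff (P := @Flat)]
      exact RingHom.flat_algebraMap_iff.mpr inferInstance
    haveI := hf
    refine (Groth.Agent.AlgSpLib.flatAt_comp_left_iff (pullback.fst h (cpl V A)) (h ≫ str V A) y
      (Flat.stalkMap _ _)).mp ?_
    have e : pullback.fst h (cpl V A) ≫ h ≫ str V A = pullback.snd h (cpl V A) ≫ cpl V A ≫ str V A :=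
      pullback.condition_assoc _
    rw [e]
    exact Flat.stalkMap _ _
  · have hbot : ((h ≫ str V A) x : PrimeSpectrum V).asIdeal = ⊥ := by
      by_contra hne
      exact hx ((closed_iff V A (h x)).mp (IsLocalRing.eq_maximalIdeal (Ideal.IsPrime.isMaximal inferInstance hne)))
    have hF : IsField ((Spec (CommRingCat.of V)).presheaf.stalk ((h ≫ str V A) x)) := by
      let p : PrimeSpectrum V := (h ≫ str V A) x
      have hp : p.asIdeal = ⊥ := hbot
      haveI : IsLocalization (nonZeroDivisors V) (Localization.AtPrime p.asIdeal) := by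
        rw [← Ideal.primeCompl_bot]
        convert! (inferInstance : IsLocalization.AtPrime (Localization.AtPrime p.asIdeal) p.asIdeal)
        exact hp.symm
      have hF' : IsField (Localization.AtPrime p.asIdeal) := (IsFractionRing.toField V).toIsField
      exact MulEquiv.isField hF' (StructureSheaf.stalkIso V p).toRingEquiv.symm.toMulEquiv
    letI := hF.toField
    letI := ((h ≫ str V A).stalkMap x).hom.toAlgebra
    exact (inferInstance : Module.Flat ((Spec (CommRingCat.of V)).presheaf.stalk ((h ≫ str V A) x)) (X.presheaf.stalk x))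

end Groth.Agent.AdicFlatProper
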